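import Mathlib

universe u

namespace Groth.Agent.NormalQuotLib

variable {A : Type u} [CommRing A] [IsNoetherianRing A] [IsLocalRing A]

lemma exists_pow_mul_of_ne_zero {t : A} (ht : t ∈ IsLocalRing.maximalIdeal A) {a : A} (ha : a ≠ 0) :
    ∃ n, ∃ a0, a = t ^ n * a0 ∧ a0 ∉ Ideal.span {t} := by
  classical
  have hne : Ideal.span {t} ≠ ⊤ := fun h =>
    (IsLocalRing.maximalIdeal.isMaximal A).ne_top (top_le_iff.1 (h ▸ by
      rw [Ideal.span_le, Set.singleton_subset_iff]; exact ht))
  have hinf := Ideal.iInf_pow_eq_bot_of_isLocalRing (Ideal.span {t}) hne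
  have hex : ∃ n, a ∉ Ideal.span {t} ^ n := by
    by_contra h
    push Not at h
    exact ha (by rw [← Ideal.mem_bot, ← hinf]; exact Ideal.mem_iInf.2 h)
  obtain ⟨n, hn⟩ : ∃ n, Nat.find hex = n + 1 := by
    refine ⟨Nat.find hex - 1, ?_⟩
    have : Nat.find hex ≠ 0 := fun h => by
      have := Nat.find_spec hex
      rw [h, pow_zero, Ideal.one_eq_top] at this
      exact this trivial
    omega
  have h1 : a ∈ Ideal.span {t} ^ n := by
    by_contra h
    have := Nat.find_min' hex h
    omega
  have h2 : a ∉ Ideal.span {t} ^ (n + 1) := hn ▸ Nat.find_spec hex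
  rw [Ideal.span_singleton_pow, Ideal.mem_span_singleton'] at h1 h2
  obtain ⟨a0, rfl⟩ := h1
  refine ⟨n, a0, mul_comm _ _, fun h => h2 ?_⟩
  obtain ⟨c, rfl⟩ := Ideal.mem_span_singleton'.1 h
  exact ⟨c, by ring⟩

theorem isDomain_of_quot {t : A} (ht : t ∈ IsLocalRing.maximalIdeal A) (hreg : t ∈ nonZeroDivisors A)
    [IsDomain (A ⧸ Ideal.span {t})] : IsDomain A := by
  haveI : (Ideal.span {t} : Ideal A).IsPrime := (Ideal.Quotient.isDomain_iff_prime _).1 inferInstance
  haveI : NoZeroDivisors A := ⟨fun {a b} hab => by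
    by_contra h
    push Not at h
    obtain ⟨n, a0, rfl, ha⟩ := exists_pow_mul_of_ne_zero ht h.1
    obtain ⟨m, b0, rfl, hb⟩ := exists_pow_mul_of_ne_zero ht h.2
    have hab' : a0 * b0 * t ^ (n + m) = 0 := by rw [pow_add, ← hab]; ring
    have h0 := (mul_right_mem_nonZeroDivisors_eq_zero_iff (pow_mem hreg _)).1 hab'
    rcases Ideal.IsPrime.mem_or_mem ‹_› (show a0 * b0 ∈ Ideal.span {t} from h0 ▸ zero_mem _) with h1 | h1
    · exact ha h1
    · exact hb h1⟩
  exact NoZeroDivisors.to_isDomain A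

/-- A Noetherian local domain with a prime element `t` such that `A / tA` is normal, is normal. -/
theorem isIntegrallyClosed_of_quot [IsDomain A] {t : A} (ht : t ∈ IsLocalRing.maximalIdeal A) (ht0 : t ≠ 0)
    [IsDomain (A ⧸ Ideal.span {t})] [IsIntegrallyClosed (A ⧸ Ideal.span {t})] :
    IsIntegrallyClosed A := by
  haveI hprime : (Ideal.span {t} : Ideal A).IsPrime := (Ideal.Quotient.isDomain_iff_prime _).1 inferInstance
  let K := FractionRing A
  rw [isIntegrallyClosed_iff K]
  intro x hx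
  obtain ⟨c, hc, hcx⟩ := hx.isAlmostIntegral
  obtain ⟨a, ⟨b, hb⟩, hab⟩ := IsLocalization.exists_mk'_eq (nonZeroDivisors A) x
  have hb0 : b ≠ 0 := nonZeroDivisors.ne_zero hb
  have key : ∀ n, b ^ n ∣ c * a ^ n := by
    intro n
    obtain ⟨e, he⟩ := hcx n
    refine ⟨e, IsFractionRing.injective A K ?_⟩
    have hspec : x * algebraMap A K b = algebraMap A K a := by
      rw [← hab]; exact IsLocalization.mk'_spec K a ⟨b, hb⟩
    rw [map_mul, map_mul, map_pow, map_pow, he, ← hspec, Algebra.smul_def]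
    ring
  -- `a ∈ bA + t^k A` for all `k`
  have hk : ∀ k, ∃ u r, a = b * u + t ^ k * r := by
    intro k
    induction k with
    | zero => exact ⟨0, a, by simp⟩
    | succ k ih =>
      obtain ⟨u, r, hur⟩ := ih
      by_cases hr : r = 0
      · exact ⟨u, 0, by rw [hur, hr]; ring⟩
      have key' : ∀ n, b ^ n ∣ c * (t ^ k * r) ^ n := by
        intro n
        have : t ^ k * r = a + b * (-u) := by rw [hur]; ring
        rw [this, add_pow, Finset.mul_sum]
        refine Finset.dvd_sum fun i hi => ?_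
        have hi' : i ≤ n := Nat.lt_succ_iff.1 (Finset.mem_range.1 hi)
        obtain ⟨e, he⟩ := key i
        refine ⟨e * (-u) ^ (n - i) * (n.choose i), ?_⟩
        calc c * (a ^ i * (b * -u) ^ (n - i) * (n.choose i : A))
            = (c * a ^ i) * b ^ (n - i) * (-u) ^ (n - i) * (n.choose i : A) := by rw [mul_pow]; ring
          _ = b ^ n * (e * (-u) ^ (n - i) * (n.choose i : A)) := by
              rw [he, ← pow_mul_pow_sub b hi']; ring
      obtain ⟨β, b0, hb', hb0'⟩ := exists_pow_mul_of_ne_zero ht hb0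
      obtain ⟨γ, c0, hc', hc0'⟩ := exists_pow_mul_of_ne_zero ht (nonZeroDivisors.ne_zero hc)
      obtain ⟨ρ, r0, hr', hr0'⟩ := exists_pow_mul_of_ne_zero ht hr
      -- for each `n`: valuation and reduction
      have hn : ∀ n, n * β ≤ γ + n * (k + ρ) ∧ ∃ e, c0 * r0 ^ n = b0 ^ n * e := by
        intro n
        obtain ⟨e, he⟩ := key' n
        rw [hb', hc', hr', mul_pow, mul_pow, mul_pow] at he
        have he' : t ^ (γ + n * (k + ρ)) * (c0 * r0 ^ n) = t ^ (n * β) * (b0 ^ n * e) := by
          rw [pow_add, Nat.mul_add, pow_add, mul_comm n k, mul_comm n ρ, mul_comm n β, pow_mul, pow_mul, pow_mul]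
          linear_combination he
        have hnot : c0 * r0 ^ n ∉ Ideal.span {t} := fun h => by
          rcases hprime.mem_or_mem h with h1 | h1
          · exact hc0' h1
          · exact hr0' (hprime.mem_of_pow_mem _ h1)
        have hle : n * β ≤ γ + n * (k + ρ) := by
          by_contra hlt
          push Not at hlt
          obtain ⟨d, hd⟩ := Nat.le.dest hlt.le
          have hd0 : d ≠ 0 := by omega
          rw [← hd, pow_add t (γ + n * (k + ρ)) d, mul_assoc] at he'
          have := mul_left_cancel₀ (pow_ne_zero _ ht0) he'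
          exact hnot (this ▸ Ideal.mem_span_singleton.2 ((dvd_pow_self t hd0).trans (dvd_mul_right _ _)))
        refine ⟨hle, ?_⟩
        obtain ⟨d, hd⟩ := Nat.le.dest hle
        rw [← hd, pow_add t (n * β) d, mul_assoc] at he'
        have h2 := mul_left_cancel₀ (pow_ne_zero _ ht0) he'
        have hdvd : t ^ d ∣ b0 ^ n * e := ⟨_, h2.symm⟩
        have htp : Prime t := (Ideal.span_singleton_prime ht0).1 hprime
        obtain ⟨e', he''⟩ := htp.pow_dvd_of_dvd_mul_left _ (fun h => hb0' (Ideal.mem_span_singleton.2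
          (htp.dvd_of_dvd_pow h))) hdvd
        refine ⟨e', mul_left_cancel₀ (pow_ne_zero d ht0) ?_⟩
        rw [h2, he'']; ring
      have hβ : β ≤ k + ρ := by
        by_contra hlt
        push Not at hlt
        have h1 := (hn (γ + 1)).1
        have h3 : (γ + 1) * (k + ρ + 1) ≤ (γ + 1) * β := Nat.mul_le_mul_left _ hlt
        rw [mul_add, mul_one] at h3
        omega
      -- mod `t`
      let Q := A ⧸ Ideal.span {t}
      let L := FractionRing Q
      let q : A →+* Q := Ideal.Quotient.mk _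
      have hb00 : algebraMap Q L (q b0) ≠ 0 := fun h => hb0'
        (Ideal.Quotient.eq_zero_iff_mem.1 ((map_eq_zero_iff _ (IsFractionRing.injective Q L)).1 h))
      have hai : IsAlmostIntegral Q (algebraMap Q L (q r0) / algebraMap Q L (q b0)) := by
        refine ⟨q c0, mem_nonZeroDivisors_of_ne_zero fun h => hc0' (Ideal.Quotient.eq_zero_iff_mem.1 h), fun n => ?_⟩
        obtain ⟨-, e, he⟩ := hn n
        refine ⟨q e, ?_⟩
        rw [Algebra.smul_def, div_pow, mul_div_assoc', eq_div_iff (pow_ne_zero _ hb00), ← map_pow, ← map_pow,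
          ← map_mul, ← map_mul, ← map_pow, ← map_pow, ← map_mul, ← map_mul, he, mul_comm]
      obtain ⟨v, hv⟩ := IsIntegrallyClosed.isIntegral_iff.1 hai.isIntegral
      obtain ⟨v, rfl⟩ := Ideal.Quotient.mk_surjective v
      rw [eq_div_iff hb00, ← map_mul] at hv
      have hv' := Ideal.Quotient.eq.1 ((IsFractionRing.injective Q L hv).symm.trans (map_mul q v b0).symm)
      obtain ⟨s, hs⟩ := Ideal.mem_span_singleton'.1 hv'
      obtain ⟨d, hd⟩ := Nat.le.dest hβ
      refine ⟨u + t ^ d * v, t ^ ρ * s, ?_⟩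
      rw [hur, hr', hb']
      have hpow : t ^ k * t ^ ρ = t ^ β * t ^ d := by rw [← pow_add, ← hd, pow_add]
      linear_combination (v * b0) * hpow - (t ^ k * t ^ ρ) * hs
  have hab0 : a ∈ Ideal.span {b} := by
    rw [← Ideal.Quotient.eq_zero_iff_mem]
    by_cases hbm : b ∈ IsLocalRing.maximalIdeal A
    · haveI : Nontrivial (A ⧸ Ideal.span {b}) := Ideal.Quotient.nontrivial_iff.2 fun h =>
        (IsLocalRing.maximalIdeal.isMaximal A).ne_top (top_le_iff.1 (h ▸ by
          rw [Ideal.span_le, Set.singleton_subset_iff]; exact hbm))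
      haveI : IsLocalRing (A ⧸ Ideal.span {b}) :=
        IsLocalRing.of_surjective' _ Ideal.Quotient.mk_surjective
      let J : Ideal (A ⧸ Ideal.span {b}) := Ideal.span {Ideal.Quotient.mk _ t}
      have hJ : J ≠ ⊤ := by
        rw [Ne, Ideal.span_singleton_eq_top]
        intro hu
        obtain ⟨s, hs⟩ := hu.exists_right_inv
        obtain ⟨s, rfl⟩ := Ideal.Quotient.mk_surjective s
        rw [← map_mul, ← map_one (Ideal.Quotient.mk (Ideal.span {b})), Ideal.Quotient.eq,
          Ideal.mem_span_singleton'] at hs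
        obtain ⟨z, hz⟩ := hs
        apply (IsLocalRing.maximalIdeal.isMaximal A).ne_top
        rw [Ideal.eq_top_iff_one, show (1 : A) = t * s - z * b by rw [hz]; ring]
        exact sub_mem (Ideal.mul_mem_right _ _ ht) (Ideal.mul_mem_left _ _ hbm)
      rw [← Ideal.mem_bot, ← Ideal.iInf_pow_eq_bot_of_isLocalRing J hJ, Ideal.mem_iInf]
      intro k
      obtain ⟨u, r, hur⟩ := hk k
      have hz : Ideal.Quotient.mk (Ideal.span {b}) b = 0 :=
        Ideal.Quotient.eq_zero_iff_mem.2 (Ideal.mem_span_singleton_self b)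
      rw [hur, map_add, map_mul, hz, zero_mul, zero_add, map_mul, map_pow]
      exact Ideal.mul_mem_right _ _ (Ideal.pow_mem_pow (Ideal.mem_span_singleton_self _) k)
    · rw [Ideal.Quotient.eq_zero_iff_mem,
        Ideal.span_singleton_eq_top.2 ((IsLocalRing.notMem_maximalIdeal).1 hbm)]
      trivial
  obtain ⟨y, rfl⟩ := Ideal.mem_span_singleton'.1 hab0
  refine ⟨y, ?_⟩
  rw [← hab, IsLocalization.eq_mk'_iff_mul_eq, map_mul]

end Groth.Agent.NormalQuotLib
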